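import Cfsg.Agent.OrderType.GL32

/-!
# Solution counts for small solvable groups
-/

namespace Cfsg.Agent.OrderType

/-- A table indexed by the divisors of 84. -/
def tab (l : List ℕ) (d : ℕ) : ℕ :=
  (([1, 2, 3, 4, 6, 7, 12, 14, 21, 28, 42, 84].zip l).lookup d).getD 0

/-- The map underlying a diagonal action with given generators. -/
def metaFun {a b A B C : ℕ} (e f : MV A B C) (k : MK a b) : MV A B C :=
  e ^ k.toAdd.1.val * f ^ k.toAdd.2.val

/-- A group of order 2. -/
def chi_cyc2 : MK 2 1 →* MV 1 1 1 where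
  toFun := metaFun (0, 0, 0) (0, 0, 0)
  map_one' := by decide +kernel
  map_mul' := by decide +kernel

/-- Its type. -/
abbrev G_cyc2 : Type := Aff (mulEnd chi_cyc2)

theorem counts_cyc2 : HasCounts G_cyc2 84 (tab [1, 2, 1, 2, 2, 1, 2, 2, 1, 2, 2, 2]) :=
  HasCounts.of_meta (by decide) chi_cyc2 (by decide +kernel) (by decide +kernel)

theorem solv_cyc2 : Group.IsSolvable G_cyc2 := Aff.isSolvable

/-- A group of order 8. -/
def chi_dih8 : MK 2 1 →* MV 4 1 1 where
  toFun := metaFun (3, 0, 0) (1, 0, 0)
  map_one' := by decide +kernel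
  map_mul' := by decide +kernel

/-- Its type. -/
abbrev G_dih8 : Type := Aff (mulEnd chi_dih8)

theorem counts_dih8 : HasCounts G_dih8 84 (tab [1, 6, 1, 8, 6, 1, 8, 6, 1, 8, 6, 8]) :=
  HasCounts.of_meta (by decide) chi_dih8 (by decide +kernel) (by decide +kernel)

theorem solv_dih8 : Group.IsSolvable G_dih8 := Aff.isSolvable

/-- A group of order 28. -/
def chi_meta28 : MK 4 1 →* MV 7 1 1 where
  toFun := metaFun (6, 0, 0) (1, 0, 0)
  map_one' := by decide +kernel
  map_mul' := by decide +kernel

/-- Its type. -/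
abbrev G_meta28 : Type := Aff (mulEnd chi_meta28)

theorem counts_meta28 : HasCounts G_meta28 84 (tab [1, 2, 1, 16, 2, 7, 16, 14, 7, 28, 14, 28]) :=
  HasCounts.of_meta (by decide) chi_meta28 (by decide +kernel) (by decide +kernel)

theorem solv_meta28 : Group.IsSolvable G_meta28 := Aff.isSolvable

/-- A group of order 294. -/
def chi_meta294 : MK 6 1 →* MV 7 7 1 where
  toFun := metaFun (6, 3, 0) (1, 1, 0)
  map_one' := by decide +kernel
  map_mul' := by decide +kernel

/-- Its type. -/
abbrev G_meta294 : Type := Aff (mulEnd chi_meta294)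

theorem counts_meta294 : HasCounts G_meta294 84 (tab [1, 50, 15, 50, 162, 49, 162, 98, 147, 98, 294, 294]) :=
  HasCounts.of_meta (by decide) chi_meta294 (by decide +kernel) (by decide +kernel)

theorem solv_meta294 : Group.IsSolvable G_meta294 := Aff.isSolvable

/-- A group of order 21. -/
def chi_meta21 : MK 3 1 →* MV 7 1 1 where
  toFun := metaFun (2, 0, 0) (1, 0, 0)
  map_one' := by decide +kernel
  map_mul' := by decide +kernel

/-- Its type. -/
abbrev G_meta21 : Type := Aff (mulEnd chi_meta21)

theorem counts_meta21 : HasCounts G_meta21 84 (tab [1, 1, 15, 1, 15, 7, 15, 7, 21, 7, 21, 21]) :=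
  HasCounts.of_meta (by decide) chi_meta21 (by decide +kernel) (by decide +kernel)

theorem solv_meta21 : Group.IsSolvable G_meta21 := Aff.isSolvable

/-- A group of order 504. -/
def chi_meta504a : MK 2 4 →* MV 3 7 3 where
  toFun := metaFun (2, 6, 2) (1, 1, 2)
  map_one' := by decide +kernel
  map_mul' := by decide +kernel

/-- Its type. -/
abbrev G_meta504a : Type := Aff (mulEnd chi_meta504a)

theorem counts_meta504a : HasCounts G_meta504a 84 (tab [1, 128, 9, 176, 144, 7, 288, 140, 63, 224, 252, 504]) :=
  HasCounts.of_meta (by decide) chi_meta504a (by decide +kernel) (by decide +kernel)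

theorem solv_meta504a : Group.IsSolvable G_meta504a := Aff.isSolvable

/-- A group of order 252. -/
def chi_meta252 : MK 2 2 →* MV 3 3 7 where
  toFun := metaFun (1, 2, 6) (2, 1, 6)
  map_one' := by decide +kernel
  map_mul' := by decide +kernel

/-- Its type. -/
abbrev G_meta252 : Type := Aff (mulEnd chi_meta252)

theorem counts_meta252 : HasCounts G_meta252 84 (tab [1, 52, 9, 52, 144, 7, 144, 112, 63, 112, 252, 252]) :=
  HasCounts.of_meta (by decide) chi_meta252 (by decide +kernel) (by decide +kernel)

theorem solv_meta252 : Group.IsSolvable G_meta252 := Aff.isSolvable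

/-- A group of order 784. -/
def chi_meta784 : MK 2 2 →* MV 7 7 4 where
  toFun := metaFun (1, 6, 3) (6, 1, 3)
  map_one' := by decide +kernel
  map_mul' := by decide +kernel

/-- Its type. -/
abbrev G_meta784 : Type := Aff (mulEnd chi_meta784)

theorem counts_meta784 : HasCounts G_meta784 84 (tab [1, 156, 1, 256, 156, 49, 256, 588, 49, 784, 588, 784]) :=
  HasCounts.of_meta (by decide) chi_meta784 (by decide +kernel) (by decide +kernel)

theorem solv_meta784 : Group.IsSolvable G_meta784 := Aff.isSolvable

/-- A group of order 4. -/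
def chi_cyc4 : MK 4 1 →* MV 1 1 1 where
  toFun := metaFun (0, 0, 0) (0, 0, 0)
  map_one' := by decide +kernel
  map_mul' := by decide +kernel

/-- Its type. -/
abbrev G_cyc4 : Type := Aff (mulEnd chi_cyc4)

theorem counts_cyc4 : HasCounts G_cyc4 84 (tab [1, 2, 1, 4, 2, 1, 4, 2, 1, 4, 2, 4]) :=
  HasCounts.of_meta (by decide) chi_cyc4 (by decide +kernel) (by decide +kernel)

theorem solv_cyc4 : Group.IsSolvable G_cyc4 := Aff.isSolvable

/-- A group of order 7. -/
def chi_cyc7 : MK 7 1 →* MV 1 1 1 where
  toFun := metaFun (0, 0, 0) (0, 0, 0)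
  map_one' := by decide +kernel
  map_mul' := by decide +kernel

/-- Its type. -/
abbrev G_cyc7 : Type := Aff (mulEnd chi_cyc7)

theorem counts_cyc7 : HasCounts G_cyc7 84 (tab [1, 1, 1, 1, 1, 7, 1, 7, 7, 7, 7, 7]) :=
  HasCounts.of_meta (by decide) chi_cyc7 (by decide +kernel) (by decide +kernel)

theorem solv_cyc7 : Group.IsSolvable G_cyc7 := Aff.isSolvable

/-- A group of order 42. -/
def chi_meta42 : MK 6 1 →* MV 7 1 1 where
  toFun := metaFun (3, 0, 0) (1, 0, 0)
  map_one' := by decide +kernel
  map_mul' := by decide +kernel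

/-- Its type. -/
abbrev G_meta42 : Type := Aff (mulEnd chi_meta42)

theorem counts_meta42 : HasCounts G_meta42 84 (tab [1, 8, 15, 8, 36, 7, 36, 14, 21, 14, 42, 42]) :=
  HasCounts.of_meta (by decide) chi_meta42 (by decide +kernel) (by decide +kernel)

theorem solv_meta42 : Group.IsSolvable G_meta42 := Aff.isSolvable

/-- A group of order 196. -/
def chi_meta196 : MK 4 1 →* MV 7 7 1 where
  toFun := metaFun (6, 6, 0) (1, 1, 0)
  map_one' := by decide +kernel
  map_mul' := by decide +kernel

/-- Its type. -/
abbrev G_meta196 : Type := Aff (mulEnd chi_meta196)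

theorem counts_meta196 : HasCounts G_meta196 84 (tab [1, 2, 1, 100, 2, 49, 100, 98, 49, 196, 98, 196]) :=
  HasCounts.of_meta (by decide) chi_meta196 (by decide +kernel) (by decide +kernel)

theorem solv_meta196 : Group.IsSolvable G_meta196 := Aff.isSolvable

/-- A group of order 588. -/
def chi_meta588 : MK 12 1 →* MV 7 7 1 where
  toFun := metaFun (6, 3, 0) (1, 1, 0)
  map_one' := by decide +kernel
  map_mul' := by decide +kernel

/-- Its type. -/
abbrev G_meta588 : Type := Aff (mulEnd chi_meta588)

theorem counts_meta588 : HasCounts G_meta588 84 (tab [1, 2, 15, 100, 30, 49, 324, 98, 147, 196, 294, 588]) :=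
  HasCounts.of_meta (by decide) chi_meta588 (by decide +kernel) (by decide +kernel)

theorem solv_meta588 : Group.IsSolvable G_meta588 := Aff.isSolvable

/-- A group of order 42. -/
def chi_dih42 : MK 2 1 →* MV 3 7 1 where
  toFun := metaFun (2, 6, 0) (1, 1, 0)
  map_one' := by decide +kernel
  map_mul' := by decide +kernel

/-- Its type. -/
abbrev G_dih42 : Type := Aff (mulEnd chi_dih42)

theorem counts_dih42 : HasCounts G_dih42 84 (tab [1, 22, 3, 22, 24, 7, 24, 28, 21, 28, 42, 42]) :=
  HasCounts.of_meta (by decide) chi_dih42 (by decide +kernel) (by decide +kernel)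

theorem solv_dih42 : Group.IsSolvable G_dih42 := Aff.isSolvable

/-- A group of order 6. -/
def chi_sym3 : MK 2 1 →* MV 3 1 1 where
  toFun := metaFun (2, 0, 0) (1, 0, 0)
  map_one' := by decide +kernel
  map_mul' := by decide +kernel

/-- Its type. -/
abbrev G_sym3 : Type := Aff (mulEnd chi_sym3)

theorem counts_sym3 : HasCounts G_sym3 84 (tab [1, 4, 3, 4, 6, 1, 6, 4, 3, 4, 6, 6]) :=
  HasCounts.of_meta (by decide) chi_sym3 (by decide +kernel) (by decide +kernel)

theorem solv_sym3 : Group.IsSolvable G_sym3 := Aff.isSolvable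

/-- A group of order 504. -/
def chi_meta504b : MK 2 4 →* MV 7 3 3 where
  toFun := metaFun (1, 2, 2) (6, 1, 2)
  map_one' := by decide +kernel
  map_mul' := by decide +kernel

/-- Its type. -/
abbrev G_meta504b : Type := Aff (mulEnd chi_meta504b)

theorem counts_meta504b : HasCounts G_meta504b 84 (tab [1, 20, 9, 104, 36, 7, 288, 140, 63, 224, 252, 504]) :=
  HasCounts.of_meta (by decide) chi_meta504b (by decide +kernel) (by decide +kernel)

theorem solv_meta504b : Group.IsSolvable G_meta504b := Aff.isSolvable

/-- The field with eight elements as a vector space. -/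
abbrev V3 : Type := ZMod 2 × ZMod 2 × ZMod 2

/-- Multiplication by a generator of the field with eight elements. -/
def gamma (x : V3) : V3 := (x.2.2, x.1 + x.2.2, x.2.1)

/-- The Frobenius automorphism. -/
def frob (x : V3) : V3 := (x.1, x.2.2, x.2.1 + x.2.2)

/-- The semilinear action on the field with eight elements. -/
def actV3Fun (g : G_meta21) (x : V3) : V3 := gamma^[g.v.1.val] (frob^[g.k.toAdd.1.val] x)

/-- The semilinear action as a hom. -/
def actV3 : G_meta21 →* AddMonoid.End V3 where
  toFun g := AddMonoidHom.mk' (actV3Fun g) ((by decide +kernel :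
    ∀ (g : G_meta21) (x y : V3), actV3Fun g (x + y) = actV3Fun g x + actV3Fun g y) g)
  map_one' := AddMonoidHom.ext (by decide +kernel : ∀ x : V3, actV3Fun 1 x = x)
  map_mul' g h := AddMonoidHom.ext ((by decide +kernel :
    ∀ (g h : G_meta21) (x : V3), actV3Fun (g * h) x = actV3Fun g (actV3Fun h x)) g h)

/-- The semilinear affine group of degree eight. -/
abbrev G_agl : Type := Aff actV3

theorem counts_agl : HasCounts G_agl 84 (tab [1, 8, 57, 8, 120, 49, 120, 56, 105, 56, 168, 168]) :=
  HasCounts.of_list [6, 7] (by decide) (by decide +kernel) (by decide +kernel)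

theorem solv_agl : Group.IsSolvable G_agl := Aff.isSolvable (hK := solv_meta21)

/-- The four-group. -/
abbrev V2 : Type := ZMod 2 × ZMod 2

/-- An automorphism of order three of the four-group. -/
def rot (x : V2) : V2 := (x.2, x.1 + x.2)

/-- An automorphism of order two of the four-group. -/
def flip2 (x : V2) : V2 := (x.2, x.1)

/-- The action of the symmetric group of degree three on the four-group. -/
def actV2Fun (g : G_sym3) (x : V2) : V2 := rot^[g.v.1.val] (flip2^[g.k.toAdd.1.val] x)

/-- The action as a hom. -/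
def actV2 : G_sym3 →* AddMonoid.End V2 where
  toFun g := AddMonoidHom.mk' (actV2Fun g) ((by decide +kernel :
    ∀ (g : G_sym3) (x y : V2), actV2Fun g (x + y) = actV2Fun g x + actV2Fun g y) g)
  map_one' := AddMonoidHom.ext (by decide +kernel : ∀ x : V2, actV2Fun 1 x = x)
  map_mul' g h := AddMonoidHom.ext ((by decide +kernel :
    ∀ (g h : G_sym3) (x : V2), actV2Fun (g * h) x = actV2Fun g (actV2Fun h x)) g h)

/-- The symmetric group of degree four. -/
abbrev G_sym4 : Type := Aff actV2

theorem counts_sym4 : HasCounts G_sym4 84 (tab [1, 10, 9, 16, 18, 1, 24, 10, 9, 16, 18, 24]) :=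
  HasCounts.of_list [4, 3] (by decide) (by decide +kernel) (by decide +kernel)

theorem solv_sym4 : Group.IsSolvable G_sym4 := Aff.isSolvable (hK := solv_sym3)

/-- The action of the group of order three on the four-group. -/
def actA4 : MK 3 1 →* AddMonoid.End V2 where
  toFun k := AddMonoidHom.mk' (rot^[k.toAdd.1.val]) ((by decide +kernel :
    ∀ (k : MK 3 1) (x y : V2), rot^[k.toAdd.1.val] (x + y) =
      rot^[k.toAdd.1.val] x + rot^[k.toAdd.1.val] y) k)
  map_one' := AddMonoidHom.ext (by decide +kernel : ∀ x : V2, rot^[(1 : MK 3 1).toAdd.1.val] x = x)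
  map_mul' g h := AddMonoidHom.ext ((by decide +kernel : ∀ (g h : MK 3 1) (x : V2),
    rot^[(g * h).toAdd.1.val] x = rot^[g.toAdd.1.val] (rot^[h.toAdd.1.val] x)) g h)

/-- The alternating group of degree four. -/
abbrev G_alt4 : Type := Aff actA4

theorem counts_alt4 : HasCounts G_alt4 84 (tab [1, 4, 9, 4, 12, 1, 12, 4, 9, 4, 12, 12]) :=
  HasCounts.of_list [2, 3] (by decide) (by decide +kernel) (by decide +kernel)

theorem solv_alt4 : Group.IsSolvable G_alt4 := Aff.isSolvable

end Cfsg.Agent.OrderType
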